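import Cfsg.Agent.Lib.WC.Defs
import Cfsg.Agent.S0205
import Cfsg.Agent.Lib.U175.Loc19
import Cfsg.Agent.Lib.Coprime.Hall

/-!
# A simple group of order 175560 with involution centralizer of order 120 has no odd subgroup of order divisible by 209.
-/

set_option autoImplicit false

namespace Cfsg.Agent.Lib.WC

open Subgroup

theorem no209 {X : Type*} [Group X] [Finite X] [IsSimpleGroup X] (hX : Nat.card X = 175560)
    (t : X) (ht : orderOf t = 2)
    (hconj : ∀ a b : X, orderOf a = 2 → orderOf b = 2 → ∃ g : X, g * a * g⁻¹ = b)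
    (hC : Nat.card (centralizer ({t} : Set X)) = 120)
    (Q : Subgroup X) (hQ : Odd (Nat.card Q)) (h209 : 209 ∣ Nat.card Q) : False := by
  classical
  haveI hsQ : Group.IsSolvable Q := Cfsg.Agent.S0205.result hQ
  obtain ⟨H, hHQ, hpi, hnd⟩ :=
    Cfsg.Agent.Lib.Coprime.Hall.exists_isPiHallOf ({11, 19} : Set ℕ) Q
  haveI f11 : Fact (Nat.Prime 11) := ⟨by norm_num⟩
  haveI f19 : Fact (Nat.Prime 19) := ⟨by norm_num⟩
  have hQc : Nat.card Q = Nat.card H * H.relIndex Q :=
    Cfsg.Agent.Lib.Coprime.Action.card_eq_card_mul_relIndex hHQ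
  have h11 : 11 ∣ Nat.card H := by
    have h1 : 11 ∣ Nat.card H * H.relIndex Q := by
      rw [← hQc]; exact Dvd.dvd.trans (by norm_num) h209
    exact ((Nat.Prime.dvd_mul f11.out).1 h1).resolve_right (hnd 11 f11.out (by simp))
  have h19 : 19 ∣ Nat.card H := by
    have h1 : 19 ∣ Nat.card H * H.relIndex Q := by
      rw [← hQc]; exact Dvd.dvd.trans (by norm_num) h209
    exact ((Nat.Prime.dvd_mul f19.out).1 h1).resolve_right (hnd 19 f19.out (by simp))
  have hH209 : 209 ∣ Nat.card H :=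
    (by norm_num : (209 : ℕ) = 11 * 19) ▸ Nat.Coprime.mul_dvd_of_dvd_of_dvd (by norm_num) h11 h19
  have hHX : Nat.card H ∣ 175560 := hX ▸ Subgroup.card_subgroup_dvd_card H
  obtain ⟨m, hm⟩ := hH209
  have hm840 : m ∣ 840 := by
    rw [hm] at hHX
    have : (209 * m) ∣ 209 * 840 := by simpa using hHX
    exact Nat.dvd_of_mul_dvd_mul_left (by norm_num) this
  have hm1 : m = 1 := by
    by_contra hne
    obtain ⟨p, hp, hpm⟩ := Nat.exists_prime_and_dvd hne
    have hpH : p ∣ Nat.card H := hm ▸ Dvd.dvd.mul_left hpm 209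
    have h3 := hpi p hp hpH
    have h4 : p ∣ 840 := hpm.trans hm840
    rcases h3 with rfl | h3
    · norm_num at h4
    · rw [Set.mem_singleton_iff] at h3
      subst h3
      norm_num at h4
  subst hm1
  have hH : Nat.card H = 19 * 11 := by rw [hm]
  -- a subgroup of order 19 of `H`
  obtain ⟨P₀, hP₀⟩ := Sylow.exists_subgroup_card_pow_prime (G := H) 19 (n := 1)
    (by rw [pow_one, hH]; exact Dvd.intro _ rfl)
  have hP : Nat.card (P₀.map H.subtype) = 19 := by
    rw [Subgroup.card_map_of_injective H.subtype_injective, hP₀, pow_one]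
  have hPH : P₀.map H.subtype ≤ H := Subgroup.map_subtype_le P₀
  have hn : H ≤ normalizer ((P₀.map H.subtype : Subgroup X) : Set X) :=
    Cfsg.Agent.Lib.U175.le_norm_of_div H (P₀.map H.subtype) hH (by norm_num) (by norm_num) hP hPH
      (by decide +kernel)
  have h114 := Cfsg.Agent.Lib.U175.norm19 hX hconj (P₀.map H.subtype) hP
  have hdvd := Subgroup.card_dvd_of_le hn
  rw [h114, hH] at hdvd
  norm_num at hdvd

end Cfsg.Agent.Lib.WC
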