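import Cfsg.Agent.Lib.WC.Z10
import Cfsg.Agent.Lib.WC.Trans
import Cfsg.Agent.Lib.WC.No209
import Cfsg.Agent.Lib.J1Rec.JSide
import Cfsg.Agent.Lib.CoprimeGen.Basic
import Cfsg.Agent.Lib.Core.Basic
import Cfsg.Agent.S1225

/-!
# Case 1: `J ≠ G`. By induction `J ≅ J₁`; `N(J)` strongly embedded is impossible.
-/

set_option autoImplicit false
set_option linter.unusedVariables false
set_option linter.unusedSectionVars false

namespace Cfsg.Agent.Lib.WC

open Subgroup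

universe u

variable {G : Type u} [Group G] [Finite G] {t : G} {S : Sylow 2 G}

lemma mem_cent {c x : G} : x ∈ centralizer ({c} : Set G) ↔ c * x = x * c := by
  rw [mem_centralizer_iff]
  simp

/-- Normalizer membership from two inclusions. -/
lemma mem_normalizer_of {J : Subgroup G} {c : G} (h1 : ∀ y ∈ J, c * y * c⁻¹ ∈ J)
    (h2 : ∀ y ∈ J, c⁻¹ * y * c ∈ J) : c ∈ normalizer (J : Set G) := by
  rw [mem_normalizer_iff]
  intro y
  constructor
  · exact h1 y
  · intro hy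
    have := h2 _ hy
    have e : c⁻¹ * (c * y * c⁻¹) * c = y := by group
    rwa [e] at this

/-- An involution of `N ≥ S` lies in an `N`-conjugate of `S`. -/
lemma exists_conj_of_le (N : Subgroup G) (S : Sylow 2 G) (hSN : (S : Subgroup G) ≤ N) {x : G}
    (hxN : x ∈ N) (hx : orderOf x = 2) :
    ∃ m ∈ N, m⁻¹ * x * m ∈ (S : Subgroup G) := by
  let S₀ : Sylow 2 N := S.subtype hSN
  let x₀ : N := ⟨x, hxN⟩
  have hx₀ : orderOf x₀ = 2 := by
    rw [Subgroup.orderOf_mk]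
    exact hx
  have hp : IsPGroup 2 (zpowers x₀) := by
    rintro ⟨y, hy⟩
    obtain ⟨k, rfl⟩ := mem_zpowers_iff.mp hy
    refine ⟨1, Subtype.ext ?_⟩
    have h2 : x₀ ^ 2 = 1 := by rw [← hx₀]; exact pow_orderOf_eq_one x₀
    simp only [pow_one, SubgroupClass.coe_pow, OneMemClass.coe_one]
    rw [← zpow_natCast, ← zpow_mul, mul_comm, zpow_mul, zpow_natCast, h2, one_zpow]
  obtain ⟨Q, hQ⟩ := hp.exists_le_sylow
  obtain ⟨m, hm⟩ := MulAction.exists_smul_eq N S₀ Q
  refine ⟨(m : G), m.2, ?_⟩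
  have h1 : x₀ ∈ (Q : Subgroup N) := hQ (mem_zpowers x₀)
  rw [← hm, Sylow.coe_subgroup_smul, Subgroup.mem_pointwise_smul_iff_inv_smul_mem] at h1
  have h2 : (MulAut.conj m)⁻¹ • x₀ = m⁻¹ * x₀ * m := by
    rw [MulAut.smul_def, MulAut.inv_def, MulAut.conj_symm_apply]
  rw [h2] at h1
  have h3 : (m⁻¹ * x₀ * m : N) ∈ (S₀ : Subgroup N) := h1
  rw [Sylow.coe_subtype, Subgroup.mem_subgroupOf] at h3
  simpa [x₀] using h3

lemma factorization_175560 : (175560 : ℕ).factorization 2 = 3 := by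
  rw [show (175560 : ℕ) = 2 ^ 3 * 21945 by norm_num, Nat.factorization_mul (by norm_num) (by norm_num),
    Nat.Prime.factorization_pow Nat.prime_two]
  simp [Nat.factorization_eq_zero_of_not_dvd (by norm_num : ¬ 2 ∣ 21945)]

/-- Subgroups of order 8 of a group of order 175560 inside `J` are conjugate in `J`. -/
lemma conj_eight {J T T₂ : Subgroup G} (hc : Nat.card J = 175560) (hT : T ≤ J) (hT₂ : T₂ ≤ J)
    (h8 : Nat.card T = 8) (h8₂ : Nat.card T₂ = 8) :
    ∃ b ∈ J, ∀ x, x ∈ T₂ ↔ b⁻¹ * x * b ∈ T := by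
  have hf : (2 : ℕ) ^ (Nat.card J).factorization 2 = 8 := by
    rw [hc, factorization_175560]; norm_num
  have hc1 : Nat.card (T.subgroupOf J) = 2 ^ (Nat.card J).factorization 2 := by
    rw [hf, ← h8]
    exact Nat.card_congr (subgroupOfEquivOfLe hT).toEquiv
  have hc2 : Nat.card (T₂.subgroupOf J) = 2 ^ (Nat.card J).factorization 2 := by
    rw [hf, ← h8₂]
    exact Nat.card_congr (subgroupOfEquivOfLe hT₂).toEquiv
  let P₁ : Sylow 2 J := Sylow.ofCard _ hc1
  let P₂ : Sylow 2 J := Sylow.ofCard _ hc2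
  obtain ⟨m, hm⟩ := MulAction.exists_smul_eq J P₁ P₂
  refine ⟨(m : G), m.2, fun x => ?_⟩
  have key : ∀ y : J, y ∈ T₂.subgroupOf J ↔ m⁻¹ * y * m ∈ T.subgroupOf J := by
    intro y
    have e1 : T₂.subgroupOf J = (m • P₁ : Sylow 2 J) := by rw [hm]; rfl
    rw [e1, Sylow.coe_subgroup_smul, Subgroup.mem_pointwise_smul_iff_inv_smul_mem]
    have h2 : (MulAut.conj m)⁻¹ • y = m⁻¹ * y * m := by
      rw [MulAut.smul_def, MulAut.inv_def, MulAut.conj_symm_apply]
    rw [h2]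
    rfl
  constructor
  · intro hx
    have hxJ := hT₂ hx
    have := (key ⟨x, hxJ⟩).mp (mem_subgroupOf.mpr hx)
    simpa [mem_subgroupOf] using this
  · intro hx
    have hxJ : x ∈ J := by
      have := J.mul_mem (J.mul_mem m.2 (hT hx)) (J.inv_mem m.2)
      have e : (m : G) * ((m : G)⁻¹ * x * m) * (m : G)⁻¹ = x := by group
      rwa [e] at this
    have := (key ⟨x, hxJ⟩).mpr (by simpa [mem_subgroupOf] using hx)
    exact mem_subgroupOf.mp this

/-- An odd element inverted by an involution: the product is a conjugate of the involution. -/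
lemma conj_of_inverted {X : Type*} [Group X] {i w : X} (hi : i * i = 1) (hw : i * w * i = w⁻¹)
    (hodd : Odd (orderOf w)) : ∃ k : ℕ, i * w = w ^ k * i * (w ^ k)⁻¹ := by
  have key : ∀ k : ℕ, i * w ^ k * i = (w ^ k)⁻¹ := by
    intro k
    induction k with
    | zero => simpa using hi
    | succ k ih =>
      have e : i * w ^ (k + 1) * i = (i * w ^ k * i) * (i * w * i) := by
        calc i * w ^ (k + 1) * i = i * w ^ k * 1 * w * i := by rw [pow_succ]; group
          _ = i * w ^ k * (i * i) * w * i := by rw [hi]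
          _ = (i * w ^ k * i) * (i * w * i) := by group
      rw [e, ih, hw, pow_succ, mul_inv_rev]
      exact (Commute.inv_inv ((Commute.refl w).pow_right k).symm).eq ▸ rfl
  obtain ⟨r, hr⟩ := hodd
  refine ⟨r, ?_⟩
  have h1 : w ^ (2 * r + 1) = 1 := by
    rw [← hr]
    exact pow_orderOf_eq_one w
  have h2 : w ^ r * w ^ r = w⁻¹ := by
    rw [← pow_add, ← two_mul]
    rw [pow_succ] at h1
    exact eq_inv_of_mul_eq_one_left h1
  have h3 : i * (w ^ r)⁻¹ = w ^ r * i := by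
    rw [← key r]
    calc i * (i * w ^ r * i) = (i * i) * w ^ r * i := by group
      _ = w ^ r * i := by rw [hi, one_mul]
  calc i * w = (i * w * i) * i := by
        calc i * w = i * w * 1 := by rw [mul_one]
          _ = i * w * (i * i) := by rw [hi]
          _ = (i * w * i) * i := by group
    _ = w⁻¹ * i := by rw [hw]
    _ = w ^ r * w ^ r * i := by rw [h2]
    _ = w ^ r * (w ^ r * i) := by group
    _ = w ^ r * (i * (w ^ r)⁻¹) := by rw [h3]
    _ = w ^ r * i * (w ^ r)⁻¹ := by group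

/-- Two-part and odd part of an element. -/
lemma exists_two_odd_parts (c : G) : ∃ (a b : ℕ) (c₂ c₃ : G), c = c₂ * c₃ ∧ c₂ ^ (2 ^ a) = 1 ∧ c₃ ^ b = 1 ∧
    Odd b ∧ c₂ ∈ zpowers c ∧ c₃ ∈ zpowers c := by
  have hn : orderOf c ≠ 0 := (orderOf_pos c).ne'
  obtain ⟨a, b, hb, hab⟩ := Nat.exists_eq_two_pow_mul_odd hn
  have hcop : Nat.Coprime (2 ^ a) b := Nat.Coprime.pow_left _ (Nat.coprime_two_left.mpr hb)
  have hg := Nat.gcd_eq_gcd_ab (2 ^ a) b
  rw [hcop.gcd_eq_one] at hg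
  set A := Nat.gcdA (2 ^ a) b
  set B := Nat.gcdB (2 ^ a) b
  have hc1 : c ^ ((2 ^ a * b : ℕ) : ℤ) = 1 := by
    rw [zpow_natCast, ← hab]
    exact pow_orderOf_eq_one c
  refine ⟨a, b, c ^ ((b : ℤ) * B), c ^ (((2 ^ a : ℕ) : ℤ) * A), ?_, ?_, ?_, hb, zpow_mem_zpowers _ _, zpow_mem_zpowers _ _⟩
  · rw [← zpow_add]
    have : (b : ℤ) * B + ((2 ^ a : ℕ) : ℤ) * A = 1 := by
      have h1 : ((1 : ℕ) : ℤ) = ((2 ^ a : ℕ) : ℤ) * A + (b : ℤ) * B := hg
      push_cast at h1 ⊢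
      linarith
    rw [this, zpow_one]
  · rw [← zpow_natCast, ← zpow_mul]
    have : (b : ℤ) * B * ((2 ^ a : ℕ) : ℤ) = ((2 ^ a * b : ℕ) : ℤ) * B := by
      push_cast
      ring
    rw [this, zpow_mul, hc1, one_zpow]
  · rw [← zpow_natCast, ← zpow_mul]
    have : ((2 ^ a : ℕ) : ℤ) * A * (b : ℤ) = ((2 ^ a * b : ℕ) : ℤ) * A := by
      push_cast
      ring
    rw [this, zpow_mul, hc1, one_zpow]

/-- A subgroup of order 4 with four named elements. -/
lemma four_elems {V : Subgroup G} (hV : Nat.card V = 4) {a b c : G} (ha : a ∈ V) (hb : b ∈ V) (hc : c ∈ V)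
    (ha1 : a ≠ 1) (hb1 : b ≠ 1) (hc1 : c ≠ 1) (hab : a ≠ b) (hac : a ≠ c) (hbc : b ≠ c) {x : G} (hx : x ∈ V) :
    x = 1 ∨ x = a ∨ x = b ∨ x = c := by
  classical
  by_contra hne
  push_neg at hne
  obtain ⟨h1, h2, h3, h4⟩ := hne
  haveI := Fintype.ofFinite V
  let F : Finset V := {⟨1, V.one_mem⟩, ⟨a, ha⟩, ⟨b, hb⟩, ⟨c, hc⟩, ⟨x, hx⟩}
  have hF : F.card = 5 := by
    simp only [F]
    rw [Finset.card_insert_of_notMem, Finset.card_insert_of_notMem, Finset.card_insert_of_notMem,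
      Finset.card_insert_of_notMem, Finset.card_singleton]
    · simp [Subtype.ext_iff, Ne.symm h4]
    · simp [Subtype.ext_iff, hbc, Ne.symm h3]
    · simp [Subtype.ext_iff, hab, hac, Ne.symm h2]
    · simp [Subtype.ext_iff, Ne.symm ha1, Ne.symm hb1, Ne.symm hc1, Ne.symm h1]
  have hle := Finset.card_le_univ F
  rw [hF, Fintype.card_eq_nat_card, hV] at hle
  omega

lemma Ec_pow {c k : G} (hc : Ec c k) (n : ℕ) : Ec (c ^ n) k := by
  intro l hl
  exact ((Commute.pow_left (show Commute c l from hc l hl) n)).eq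

namespace Hyp

variable (h : Hyp t S)
include h

theorem t_mem_JJ : t ∈ JJ t S := h.T_le_JJ h.t_mem_T

/-- S1: `J ≅ J₁` by induction. -/
theorem jj_iso (IH : Main ↥(JJ t S)) : Cfsg.Spor.IsoJ1 ↥(JJ t S) := by
  have ht : t ∈ JJ t S := h.t_mem_JJ
  obtain ⟨P, hP⟩ := h.exists_sylow_over (JJ t S) h.T_le_JJ
  have hy := (h.hyp_sub (JJ t S) le_rfl ht P hP).1
  have hI := IH ⟨t, ht⟩ P hy
  have hle := h.JJ_le_nc_sub (JJ t S) le_rfl ht
  have htop : normalClosure ({(⟨t, ht⟩ : JJ t S)} : Set (JJ t S)) = ⊤ := by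
    rw [eq_top_iff]
    refine le_trans ?_ hle
    rw [Subgroup.subgroupOf_self]
  rw [htop] at hI
  obtain ⟨e⟩ := hI
  exact ⟨(Subgroup.topEquiv.symm).trans e⟩

/-- S2: `T` is a Sylow 2-subgroup of `J`, `Z(J) = 1`, ... basic consequences of `J ≅ J₁`. -/
theorem jj_card (hJ : Cfsg.Spor.IsoJ1 ↥(JJ t S)) : Nat.card ↥(JJ t S) = 175560 := by
  obtain ⟨e⟩ := hJ
  rw [Nat.card_congr e.toEquiv]
  exact Cfsg.Agent.Lib.J1Rec.JSide.card_J

theorem jj_simple (hJ : Cfsg.Spor.IsoJ1 ↥(JJ t S)) : IsSimpleGroup ↥(JJ t S) := by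
  obtain ⟨e⟩ := hJ
  haveI := Cfsg.Agent.Lib.J1Rec.JSide.simple_J
  exact (MulEquiv.isSimpleGroup_congr e).mpr inferInstance

theorem jj_center (hJ : Cfsg.Spor.IsoJ1 ↥(JJ t S)) {x : G} (hx : x ∈ JJ t S)
    (hc : ∀ y ∈ JJ t S, x * y = y * x) : x = 1 := by
  haveI := h.jj_simple hJ
  rcases IsSimpleGroup.eq_bot_or_eq_top_of_normal (center (JJ t S)) inferInstance with h0 | h1
  · have hm : (⟨x, hx⟩ : JJ t S) ∈ center (JJ t S) :=
      mem_center_iff.mpr fun y => Subtype.ext (hc y y.2).symm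
    rw [h0] at hm
    exact congrArg Subtype.val (mem_bot.mp hm)
  · exfalso
    obtain ⟨e₀⟩ := h.L_iso
    have hL : L t ≤ JJ t S := L_le_JJ h.t_mem_T (by
      intro h1'
      have := h.ord
      rw [h1', orderOf_one] at this
      omega)
    have hall : ∀ l : L t, l = 1 := by
      intro l
      apply A5F.center_triv e₀
      intro y
      have hl : ((⟨l, hL l.2⟩ : JJ t S)) ∈ center (JJ t S) := by rw [h1]; trivial
      have := (mem_center_iff.mp hl) ⟨y, hL y.2⟩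
      exact Subtype.ext (congrArg Subtype.val this).symm
    have hcard := A5F.card_eq e₀
    haveI : Subsingleton (L t) := ⟨fun a b => by rw [hall a, hall b]⟩
    rw [Nat.card_of_subsingleton (1 : L t)] at hcard
    omega

theorem S_le_norm : (S : Subgroup G) ≤ normalizer (JJ t S : Set G) := by
  intro s hs
  apply h.norm_T_le
  rw [mem_normalizer_iff]
  intro y
  constructor
  · intro hy
    have := h.T_central y hy s hs
    rwa [this, mul_inv_cancel_right]
  · intro hy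
    have h2 := h.T_central _ hy s⁻¹ ((S : Subgroup G).inv_mem hs)
    have e : y = s * y * s⁻¹ := by
      calc y = s⁻¹ * (s * y * s⁻¹) * s := by group
        _ = (s * y * s⁻¹) * s⁻¹ * s := by rw [h2]
        _ = s * y * s⁻¹ := by group
    rwa [← e] at hy

/-- Conjugates of `t` in `N(J)` lie in `J`. -/
theorem Dt_norm_le (hJ : Cfsg.Spor.IsoJ1 ↥(JJ t S)) (g : G) (hg : g * t * g⁻¹ ∈ normalizer (JJ t S : Set G)) :
    g * t * g⁻¹ ∈ JJ t S := by
  have hord : orderOf (g * t * g⁻¹) = 2 := by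
    have := Cfsg.Agent.Lib.StrongEmb.Basic.orderOf_conj' g t
    rw [this]; exact h.ord
  obtain ⟨m, hm, hmS⟩ := exists_conj_of_le _ S h.S_le_norm hg hord
  have e : m⁻¹ * (g * t * g⁻¹) * m = (m⁻¹ * g) * t * (m⁻¹ * g)⁻¹ := by group
  rw [e] at hmS
  have h1 := h.conj_mem_T _ hmS
  rw [← e] at h1
  have h2 := h.T_le_JJ h1
  have h3 := (mem_normalizer_iff.mp hm _).mp h2
  have e2 : m * (m⁻¹ * (g * t * g⁻¹) * m) * m⁻¹ = g * t * g⁻¹ := by group
  rwa [e2] at h3


theorem JJ_le_cent {c : G} (hc : ∀ k ∈ TT t S, k ≠ 1 → Ec c k) :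
    JJ t S ≤ centralizer ({c} : Set G) := by
  apply iSup_le
  rintro ⟨k, hk, h1⟩ l hl
  rw [mem_cent]
  exact hc k hk h1 l hl

/-- S3: centralizer of an involution centralizing `J`. -/
theorem cent_le_central (hJ : Cfsg.Spor.IsoJ1 ↥(JJ t S)) {x : G} (hx : orderOf x = 2)
    (hxJ : ∀ k ∈ TT t S, k ≠ 1 → Ec x k) (hxZ : centralizer ({x} : Set G) ≠ ⊤)
    (IH : Main ↥(centralizer ({x} : Set G))) :
    centralizer ({x} : Set G) ≤ normalizer (JJ t S : Set G) := by
  set X := centralizer ({x} : Set G) with hXdef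
  have hJX : JJ t S ≤ X := h.JJ_le_cent hxJ
  have ht : t ∈ X := hJX h.t_mem_JJ
  obtain ⟨P, hP⟩ := h.exists_sylow_over X (h.T_le_JJ.trans hJX)
  have hy := (h.hyp_sub X hJX ht P hP).1
  obtain ⟨e⟩ := IH ⟨t, ht⟩ P hy
  have hle := h.JJ_le_nc_sub X hJX ht
  have hcard1 : Nat.card (normalClosure ({(⟨t, ht⟩ : X)} : Set X)) = 175560 := by
    rw [Nat.card_congr e.toEquiv]
    exact Cfsg.Agent.Lib.J1Rec.JSide.card_J
  have hcard2 : Nat.card ((JJ t S).subgroupOf X) = 175560 := by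
    rw [← h.jj_card hJ]
    exact Nat.card_congr (subgroupOfEquivOfLe hJX).toEquiv
  have heq : (JJ t S).subgroupOf X = normalClosure ({(⟨t, ht⟩ : X)} : Set X) :=
    Subgroup.eq_of_le_of_card_ge hle (by omega)
  have hn : ((JJ t S).subgroupOf X).Normal := by
    rw [heq]
    exact normalClosure_normal
  intro c hc
  apply mem_normalizer_of
  · intro y hy
    have := hn.conj_mem ⟨y, hJX hy⟩ (mem_subgroupOf.mpr hy) ⟨c, hc⟩
    exact mem_subgroupOf.mp this
  · intro y hy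
    have := hn.conj_mem ⟨y, hJX hy⟩ (mem_subgroupOf.mpr hy) ⟨c, hc⟩⁻¹
    simpa [mem_subgroupOf] using this


/-- `O(X)` normalizes `J`, for `X ≥ T`. -/
theorem core_le_norm (X : Subgroup G) (hTX : TT t S ≤ X) {o : X} (ho : o ∈ Cfsg.pPrimeCore 2 X) :
    (o : G) ∈ normalizer (JJ t S : Set G) := by
  have hOn : (Cfsg.pPrimeCore 2 X).Normal := Cfsg.pPrimeCore_normal 2 _
  let T₁ : Subgroup X := (TT t S).subgroupOf X
  have hA : Cfsg.IsElementaryAbelian 2 T₁ := by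
    refine ⟨⟨⟨fun a b => Subtype.ext (Subtype.ext ?_)⟩⟩, fun a ha => Subtype.ext ?_⟩
    · exact h.T_comm _ (mem_subgroupOf.mp a.2) _ (mem_subgroupOf.mp b.2)
    · have := h.T_exp _ (mem_subgroupOf.mp ha)
      simpa [pow_two] using this
  have hX : ¬ 2 ∣ Nat.card (Cfsg.pPrimeCore 2 X) := by
    intro hd
    have h1 := Cfsg.Agent.Lib.Core.Basic.pPrimeCore_coprime (p := 2) (G := X)
    have h2 := Nat.dvd_gcd hd (dvd_refl 2)
    rw [h1.gcd_eq_one] at h2
    omega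
  have hAX : T₁ ≤ normalizer ((Cfsg.pPrimeCore 2 X : Subgroup X) : Set X) := by
    intro a _
    rw [mem_normalizer_iff]
    intro y
    constructor
    · intro hy
      exact hOn.conj_mem y hy a
    · intro hy
      have := hOn.conj_mem _ hy a⁻¹
      have e : a⁻¹ * (a * y * a⁻¹) * a⁻¹⁻¹ = y := by group
      rwa [e] at this
  have heq := Cfsg.Agent.Lib.CoprimeGen.Basic.eq_hyperJoin (p := 2) hA hX hAX
  have hc8 : Nat.card T₁ = 8 := by
    rw [← h.card_T]
    exact Nat.card_congr (subgroupOfEquivOfLe hTX).toEquiv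
  have hle : Cfsg.Agent.Lib.CoprimeGen.Basic.hyperJoin 2 T₁ (Cfsg.pPrimeCore 2 X) ≤
      (normalizer (JJ t S : Set G)).comap X.subtype := by
    apply iSup_le
    rintro ⟨B, hBA, hBi⟩ z ⟨_, hzB⟩
    rcases Subgroup.bot_or_exists_ne_one B with h0 | ⟨b, hb, hb1⟩
    · exfalso
      rw [h0, Subgroup.relIndex_bot_left, hc8] at hBi
      omega
    · have hbT : (b : G) ∈ TT t S := mem_subgroupOf.mp (hBA hb)
      have hb1' : (b : G) ≠ 1 := fun e => hb1 (Subtype.ext e)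
      apply h.cent_le_norm hbT hb1'
      rw [mem_cent]
      have := (mem_centralizer_iff.mp hzB) b hb
      exact congrArg Subtype.val this
  rw [heq] at ho
  exact hle ho

/-- S4: centralizer of `j y` with `j ∈ T#`, `y` centralizing `J`. -/
theorem cent_le_tau (hJ : Cfsg.Spor.IsoJ1 ↥(JJ t S)) {j y : G} (hj : j ∈ TT t S) (hj1 : j ≠ 1)
    (hy : ∀ k ∈ TT t S, k ≠ 1 → Ec y k) (hyT : ∀ z ∈ TT t S, y * z = z * y) (hx : orderOf (j * y) = 2) :
    centralizer ({j * y} : Set G) ≤ normalizer (JJ t S : Set G) := by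
  set X := centralizer ({j * y} : Set G) with hXdef
  obtain ⟨hyp_j, hTj⟩ := h.hyp_T hj hj1
  have hjord : orderOf j = 2 := hyp_j.ord
  have hTX : TT t S ≤ X := by
    intro z hz
    rw [hXdef, mem_cent]
    calc j * y * z = j * (y * z) := by group
      _ = j * (z * y) := by rw [hyT z hz]
      _ = (j * z) * y := by group
      _ = (z * j) * y := by rw [h.T_comm j hj z hz]
      _ = z * (j * y) := by group
  have hLX : L j ≤ X := by
    intro l hl
    rw [hXdef, mem_cent]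
    have h1 : l * j = j * l := hyp_j.L_comm l hl
    have h2 : y * l = l * y := hy j hj hj1 l hl
    calc j * y * l = j * (y * l) := by group
      _ = j * (l * y) := by rw [h2]
      _ = (j * l) * y := by group
      _ = (l * j) * y := by rw [h1]
      _ = l * (j * y) := by group
  have hjX : j ∈ X := hTX hj
  let i : X := ⟨j, hjX⟩
  obtain ⟨P, hP⟩ := h.exists_sylow_over X hTX
  have hPc : ∀ s ∈ (P : Subgroup X), ∀ z ∈ TT t S, (s : G) * z = z * s := by
    intro s hs z hz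
    have hPm : IsPGroup 2 ((P : Subgroup X).map X.subtype) := P.isPGroup'.map X.subtype
    obtain ⟨S', hS'⟩ := hPm.exists_le_sylow
    exact (h.sylow_over S' (hP.trans hS')).2 _ (hS' ⟨s, hs, rfl⟩) z hz
  obtain ⟨e₀⟩ := hyp_j.L_iso
  let Λ : Subgroup X := (L j).subgroupOf X
  let e : Λ ≃* A5 := (subgroupOfEquivOfLe hLX).trans e₀
  have hi : orderOf i = 2 := by
    rw [Subgroup.orderOf_mk]
    exact hjord
  have hiP : i ∈ (P : Subgroup X) := by
    obtain ⟨p, hp, hpe⟩ := hP hj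
    have : p = i := Subtype.ext hpe
    rwa [← this]
  have hc : ∀ s ∈ (P : Subgroup X), s * i = i * s := fun s hs => Subtype.ext (hPc s hs j hj)
  have hΛ : ∀ l ∈ Λ, l * i = i * l := fun l hl => Subtype.ext (hyp_j.L_comm _ (mem_subgroupOf.mp hl))
  have hiΛ : i ∉ Λ := fun hh => hyp_j.t_not_mem_L (mem_subgroupOf.mp hh)
  have hsub : ∀ z ∈ Dt i, z = i ∨ z ∈ Λ ∨ i * z ∈ Λ := by
    rintro z ⟨g, rfl, hcz⟩
    right
    have hd : ((g * i * g⁻¹ : X) : G) ∈ Dt j := ⟨(g : G), rfl, congrArg Subtype.val hcz⟩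
    have hw : ((g * i * g⁻¹ : X) : G) ∈ W j := subset_closure hd
    rcases hyp_j.W_cases _ hw with h1 | h1
    · left
      exact mem_subgroupOf.mpr h1
    · right
      exact mem_subgroupOf.mpr h1
  rcases tri hi P hiP hc Λ e hΛ hiΛ hsub with hiso | hall
  · -- `j` is isolated in `X`
    have hz : Cfsg.IsIsolatedInvolution i := by
      refine ⟨hi, fun g hg => ?_⟩
      have : g * i * g⁻¹ ∈ Dt i := ⟨g, rfl, hg.symm.eq⟩
      rw [hiso] at this
      exact this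
    have hii : i * i = 1 := by
      rw [← pow_two, ← hi]
      exact pow_orderOf_eq_one i
    intro c hcX
    let g : X := ⟨c, hcX⟩
    have hcore := Cfsg.Agent.Lib.ZStar.Main.zstar X i hz g
    have hinv : i⁻¹ = i := inv_eq_of_mul_eq_one_left hii
    let w : X := i * (g * i * g⁻¹)
    have hw : w ∈ Cfsg.pPrimeCore 2 X := by
      have e1 : i * g * i⁻¹ * g⁻¹ = w := by
        rw [hinv]
        show i * g * i * g⁻¹ = i * (g * i * g⁻¹)
        group
      rwa [e1] at hcore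
    have hwi : i * w * i = w⁻¹ := by
      have h2 : (g * i * g⁻¹) * (g * i * g⁻¹) = 1 := by
        calc (g * i * g⁻¹) * (g * i * g⁻¹) = g * (i * i) * g⁻¹ := by group
          _ = 1 := by rw [hii]; group
      have h3 : (g * i * g⁻¹)⁻¹ = g * i * g⁻¹ := inv_eq_of_mul_eq_one_left h2
      show i * (i * (g * i * g⁻¹)) * i = (i * (g * i * g⁻¹))⁻¹
      rw [mul_inv_rev, h3, hinv, ← mul_assoc i i, hii, one_mul]
    have hodd : Odd (orderOf w) := by
      have h1 := Cfsg.Agent.Lib.Core.Basic.pPrimeCore_coprime (p := 2) (G := X)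
      have h2 : orderOf w ∣ Nat.card (Cfsg.pPrimeCore 2 X) := Subgroup.orderOf_dvd_natCard _ hw
      rw [← Nat.not_even_iff_odd, even_iff_two_dvd]
      intro hd
      have h3 := Nat.dvd_gcd (hd.trans h2) (dvd_refl 2)
      rw [h1.gcd_eq_one] at h3
      omega
    obtain ⟨k, hk⟩ := conj_of_inverted hii hwi hodd
    have hwk : w ^ k ∈ Cfsg.pPrimeCore 2 X := (Cfsg.pPrimeCore 2 X).pow_mem hw k
    have hg1 : g * i * g⁻¹ = w ^ k * i * (w ^ k)⁻¹ := by
      rw [← hk]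
      show g * i * g⁻¹ = i * (i * (g * i * g⁻¹))
      rw [← mul_assoc, hii, one_mul]
    have hcomm : ((w ^ k)⁻¹ * g) * i = i * ((w ^ k)⁻¹ * g) := by
      have e1 : ((w ^ k)⁻¹ * g) * i * ((w ^ k)⁻¹ * g)⁻¹ = i := by
        calc ((w ^ k)⁻¹ * g) * i * ((w ^ k)⁻¹ * g)⁻¹ = (w ^ k)⁻¹ * (g * i * g⁻¹) * (w ^ k) := by group
          _ = (w ^ k)⁻¹ * (w ^ k * i * (w ^ k)⁻¹) * (w ^ k) := by rw [hg1]
          _ = i := by group
      calc ((w ^ k)⁻¹ * g) * i = ((w ^ k)⁻¹ * g) * i * ((w ^ k)⁻¹ * g)⁻¹ * ((w ^ k)⁻¹ * g) := by group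
        _ = i * ((w ^ k)⁻¹ * g) := by rw [e1]
    have hc1 : (((w ^ k)⁻¹ * g : X) : G) ∈ normalizer (JJ t S : Set G) := by
      apply h.cent_le_norm hj hj1
      rw [mem_cent]
      exact (congrArg Subtype.val hcomm).symm
    have hc2 : ((w ^ k : X) : G) ∈ normalizer (JJ t S : Set G) := h.core_le_norm X hTX hwk
    have := (normalizer (JJ t S : Set G)).mul_mem hc2 hc1
    have e2 : ((w ^ k : X) : G) * (((w ^ k)⁻¹ * g : X) : G) = c := by
      have : (w ^ k : X) * ((w ^ k)⁻¹ * g) = g := by group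
      exact congrArg Subtype.val this
    rwa [e2] at this
  · -- all involutions of `⟨j⟩ × L j` are conjugate to `j` in `X`
    exfalso
    have hall' : ∀ k ∈ TT t S, k ≠ 1 → L k ≤ X := by
      intro k hk hk1
      have hkX : k ∈ X := hTX hk
      have hkord : orderOf (⟨k, hkX⟩ : X) = 2 := by
        rw [Subgroup.orderOf_mk]
        exact (h.hyp_T hk hk1).1.ord
      have hcase : (⟨k, hkX⟩ : X) ∈ Λ ∨ i * (⟨k, hkX⟩ : X) ∈ Λ := by
        rcases h.T_cases_k hj hj1 hk with h1 | h1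
        · left
          exact mem_subgroupOf.mpr h1
        · right
          exact mem_subgroupOf.mpr h1
      obtain ⟨g, hg, _⟩ := hall _ hkord hcase
      have hk' : k = (g : G) * j * (g : G)⁻¹ := congrArg Subtype.val hg
      rw [hk', L_conj]
      rintro _ ⟨l, hl, rfl⟩
      have := X.mul_mem (X.mul_mem g.2 (hLX hl)) (X.inv_mem g.2)
      exact this
    have hJX : JJ t S ≤ X := by
      apply iSup_le
      rintro ⟨k, hk, h1⟩
      exact hall' k hk h1
    have hyJ := h.JJ_le_cent hy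
    apply hj1
    apply h.jj_center hJ (h.T_le_JJ hj)
    intro l hl
    have h1 : j * y * l = l * (j * y) := (mem_cent.mp (hJX hl))
    have h2 : y * l = l * y := mem_cent.mp (hyJ hl)
    have h3 : j * y * l = j * l * y := by rw [mul_assoc, h2, mul_assoc]
    rw [h3, ← mul_assoc] at h1
    exact mul_right_cancel h1

/-- S5: all involutions of `N(J)` have centralizer in `N(J)`. -/
theorem cent_le (hJ : Cfsg.Spor.IsoJ1 ↥(JJ t S))
    (hnz : ∀ x : G, orderOf x = 2 → centralizer ({x} : Set G) ≠ ⊤)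
    (IH : ∀ x : G, orderOf x = 2 → Main ↥(centralizer ({x} : Set G))) {x : G} (hx : orderOf x = 2)
    (hxN : x ∈ normalizer (JJ t S : Set G)) :
    centralizer ({x} : Set G) ≤ normalizer (JJ t S : Set G) := by
  obtain ⟨m, hm, hmS⟩ := exists_conj_of_le _ S h.S_le_norm hxN hx
  set x0 := m⁻¹ * x * m with hx0def
  have hx0 : orderOf x0 = 2 := by
    have := Cfsg.Agent.Lib.StrongEmb.Basic.orderOf_conj' m⁻¹ x
    rw [inv_inv] at this
    rw [hx0def, this]
    exact hx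
  have hx0T : ∀ z ∈ TT t S, x0 * z = z * x0 := fun z hz => (h.T_central z hz x0 hmS)
  have key : centralizer ({x0} : Set G) ≤ normalizer (JJ t S : Set G) := by
    by_cases hmem : x0 ∈ TT t S
    · refine h.cent_le_norm hmem ?_
      intro h1
      rw [h1, orderOf_one] at hx0
      omega
    · obtain ⟨τ, hτ, hEc⟩ := h.z10 hx0 hx0T hmem
      by_cases hτ1 : τ = 1
      · subst hτ1
        simp only [mul_one] at hEc
        exact h.cent_le_central hJ hx0 hEc (hnz x0 hx0) (IH x0 hx0)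
      · have hττ : τ * τ = 1 := h.T_exp τ hτ
        have e : τ * (x0 * τ) = x0 := by
          rw [← mul_assoc, ← hx0T τ hτ, mul_assoc, hττ, mul_one]
        have hyT : ∀ z ∈ TT t S, (x0 * τ) * z = z * (x0 * τ) := by
          intro z hz
          calc x0 * τ * z = x0 * (τ * z) := by group
            _ = x0 * (z * τ) := by rw [h.T_comm τ hτ z hz]
            _ = (x0 * z) * τ := by group
            _ = (z * x0) * τ := by rw [hx0T z hz]
            _ = z * (x0 * τ) := by group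
        have := h.cent_le_tau hJ hτ hτ1 hEc hyT (by rw [e]; exact hx0)
        rwa [e] at this
  intro c hc
  have hc' : m⁻¹ * c * m ∈ centralizer ({x0} : Set G) := by
    rw [mem_cent]
    have h1 : x * c = c * x := mem_cent.mp hc
    calc x0 * (m⁻¹ * c * m) = m⁻¹ * (x * c) * m := by rw [hx0def]; group
      _ = m⁻¹ * (c * x) * m := by rw [h1]
      _ = m⁻¹ * c * m * x0 := by rw [hx0def]; group
  have h2 := key hc'
  have h3 := (normalizer (JJ t S : Set G)).mul_mem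
    ((normalizer (JJ t S : Set G)).mul_mem hm h2) ((normalizer (JJ t S : Set G)).inv_mem hm)
  have e : m * (m⁻¹ * c * m) * m⁻¹ = c := by group
  rwa [e] at h3


/-- S6: `N(J)` is strongly embedded. -/
theorem strongly (hJ : Cfsg.Spor.IsoJ1 ↥(JJ t S))
    (hle : ∀ x : G, orderOf x = 2 → x ∈ normalizer (JJ t S : Set G) →
      centralizer ({x} : Set G) ≤ normalizer (JJ t S : Set G))
    (hN : normalizer (JJ t S : Set G) ≠ ⊤) :
    Cfsg.IsStronglyEmbedded (normalizer (JJ t S : Set G)) := by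
  set N := normalizer (JJ t S : Set G) with hNdef
  have hJN : JJ t S ≤ N := Subgroup.le_normalizer
  refine ⟨hN, ?_, ?_⟩
  · have htN : t ∈ N := h.S_le_norm h.mem
    have h2 : 2 ∣ Nat.card N := by
      have := Subgroup.orderOf_dvd_natCard N htN
      rwa [h.ord] at this
    exact even_iff_two_dvd.mpr h2
  · intro g hg
    by_contra hodd
    rw [Nat.not_odd_iff_even] at hodd
    obtain ⟨x₀, hx₀⟩ := exists_prime_orderOf_dvd_card'
      (G := ↥(N ⊓ N.map (MulAut.conj g).toMonoidHom)) 2 (even_iff_two_dvd.mp hodd)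
    have hx : orderOf (x₀ : G) = 2 := (Subgroup.orderOf_coe x₀).trans hx₀
    have hxN : (x₀ : G) ∈ N := x₀.2.1
    have hxN' : g⁻¹ * x₀ * g ∈ N := by
      obtain ⟨n, hn, hne⟩ := x₀.2.2
      have e : g⁻¹ * (x₀ : G) * g = n := by
        rw [← hne]
        simp [MulAut.conj_apply]
        group
      rw [e]
      exact hn
    have hx' : orderOf (g⁻¹ * (x₀ : G) * g) = 2 := by
      have := Cfsg.Agent.Lib.StrongEmb.Basic.orderOf_conj' g⁻¹ (x₀ : G)
      rw [inv_inv] at this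
      rw [this]
      exact hx
    obtain ⟨m, hm, hmS⟩ := exists_conj_of_le N S h.S_le_norm hxN hx
    have hC := hle _ hx hxN
    have hC' := hle _ hx' hxN'
    -- the conjugate of `T`
    have hφ : ∀ τ ∈ TT t S, (g⁻¹ * m) * τ * (g⁻¹ * m)⁻¹ ∈ JJ t S := by
      intro τ hτ
      by_cases hτ1 : τ = 1
      · subst hτ1
        simpa using (JJ t S).one_mem
      obtain ⟨a, ha⟩ := h.T_conj hτ hτ1
      have hcomm : (m⁻¹ * (x₀ : G) * m) * τ = τ * (m⁻¹ * (x₀ : G) * m) := h.T_central τ hτ _ hmS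
      have h1 : (g⁻¹ * m) * τ * (g⁻¹ * m)⁻¹ ∈ centralizer ({g⁻¹ * (x₀ : G) * g} : Set G) := by
        rw [mem_cent]
        have h2 : (x₀ : G) * (m * τ * m⁻¹) = (m * τ * m⁻¹) * x₀ := by
          calc (x₀ : G) * (m * τ * m⁻¹) = m * ((m⁻¹ * x₀ * m) * τ) * m⁻¹ := by group
            _ = m * (τ * (m⁻¹ * x₀ * m)) * m⁻¹ := by rw [hcomm]
            _ = (m * τ * m⁻¹) * x₀ := by group
        calc g⁻¹ * (x₀ : G) * g * ((g⁻¹ * m) * τ * (g⁻¹ * m)⁻¹)
            = g⁻¹ * ((x₀ : G) * (m * τ * m⁻¹)) * g := by group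
          _ = g⁻¹ * ((m * τ * m⁻¹) * x₀) * g := by rw [h2]
          _ = (g⁻¹ * m) * τ * (g⁻¹ * m)⁻¹ * (g⁻¹ * (x₀ : G) * g) := by group
      have h2 := hC' h1
      have e : (g⁻¹ * m) * τ * (g⁻¹ * m)⁻¹ = (g⁻¹ * m * a) * t * (g⁻¹ * m * a)⁻¹ := by
        rw [ha]
        group
      rw [e] at h2 ⊢
      exact h.Dt_norm_le hJ _ h2
    let φ : G := g⁻¹ * m
    let T₂ : Subgroup G := (TT t S).map (MulAut.conj φ).toMonoidHom
    have hT₂J : T₂ ≤ JJ t S := by
      rintro _ ⟨τ, hτ, rfl⟩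
      exact hφ τ hτ
    have hcard : Nat.card T₂ = 8 := by
      rw [← h.card_T]
      exact Subgroup.card_map_of_injective (MulAut.conj φ).injective
    obtain ⟨b, hbJ, hb⟩ := conj_eight (h.jj_card hJ) h.T_le_JJ hT₂J h.card_T hcard
    have hn : b⁻¹ * φ ∈ normalizer (TT t S : Set G) := by
      apply mem_normalizer_of
      · intro τ hτ
        have h1 : φ * τ * φ⁻¹ ∈ T₂ := ⟨τ, hτ, rfl⟩
        have h2 := (hb _).mp h1
        have e : b⁻¹ * φ * τ * (b⁻¹ * φ)⁻¹ = b⁻¹ * (φ * τ * φ⁻¹) * b := by group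
        rwa [e]
      · intro z hz
        have h1 : b * z * b⁻¹ ∈ T₂ := by
          rw [hb]
          have e : b⁻¹ * (b * z * b⁻¹) * b = z := by group
          rwa [e]
        obtain ⟨τ, hτ, hτe⟩ := h1
        have h2 : φ * τ * φ⁻¹ = b * z * b⁻¹ := hτe
        have e : (b⁻¹ * φ)⁻¹ * z * (b⁻¹ * φ) = τ := by
          have : φ⁻¹ * (b * z * b⁻¹) * φ = τ := by
            rw [← h2]
            group
          rw [← this]
          group
        rwa [e]
    have h1 := h.norm_T_le hn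
    have h2 : g⁻¹ ∈ N := by
      have := N.mul_mem (N.mul_mem (hJN hbJ) h1) (N.inv_mem hm)
      have e : b * (b⁻¹ * φ) * m⁻¹ = g⁻¹ := by
        show b * (b⁻¹ * (g⁻¹ * m)) * m⁻¹ = g⁻¹
        group
      rwa [e] at this
    exact hg (by simpa using N.inv_mem h2)

theorem S_eq_T (hconj : ∀ a b : G, orderOf a = 2 → orderOf b = 2 → IsConj a b) :
    (S : Subgroup G) = TT t S := by
  by_contra hne
  obtain ⟨x, hxS, hx, hxT⟩ := h.exists_inv hne
  obtain ⟨g, hg⟩ := isConj_iff.mp (hconj t x h.ord hx)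
  rw [← hg] at hxS hxT
  exact hxT (h.conj_mem_T g hxS)

/-- With `S = T`, a 2-element normalizing `T` lies in `T`. -/
theorem two_mem_T (hST : (S : Subgroup G) = TT t S) {n : G} (hn : n ∈ normalizer (TT t S : Set G)) {a : ℕ}
    (hp : n ^ (2 ^ a) = 1) : n ∈ TT t S := by
  have hTP : IsPGroup 2 (TT t S) := by
    rw [← hST]
    exact S.isPGroup'
  have hzP : IsPGroup 2 (zpowers n) := by
    rintro ⟨y, hy⟩
    obtain ⟨k, rfl⟩ := mem_zpowers_iff.mp hy
    refine ⟨a, Subtype.ext ?_⟩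
    simp only [SubgroupClass.coe_pow, OneMemClass.coe_one]
    rw [← zpow_natCast, ← zpow_mul, mul_comm, zpow_mul, zpow_natCast, hp, one_zpow]
  have hle : zpowers n ≤ normalizer (TT t S : Set G) := by
    rw [zpowers_le]
    exact hn
  have hR := hTP.to_sup_of_normal_left' hzP hle
  obtain ⟨S', hS'⟩ := hR.exists_le_sylow
  have hT : TT t S ≤ (S' : Subgroup G) := le_sup_left.trans hS'
  have hcard : Nat.card (S' : Subgroup G) ≤ Nat.card (TT t S) := by
    rw [S'.card_eq_multiplicity, ← hST, S.card_eq_multiplicity]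
  have heq : TT t S = (S' : Subgroup G) := Subgroup.eq_of_le_of_card_ge hT hcard
  rw [heq]
  exact hS' (le_sup_right (a := TT t S) (mem_zpowers n))

/-- An element centralizing `T` is `τ f` with `f` centralizing all `L k`. -/
theorem C_T_decomp (hST : (S : Subgroup G) = TT t S) {c : G} (hc : ∀ x ∈ TT t S, c * x = x * c) :
    ∃ τ ∈ TT t S, ∃ f : G, (∀ k ∈ TT t S, k ≠ 1 → Ec f k) ∧ c = τ * f := by
  obtain ⟨a, b, c₂, c₃, hcc, h2, h3, hb, hc₂, hc₃⟩ := exists_two_odd_parts c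
  have hzc : ∀ w ∈ zpowers c, ∀ x ∈ TT t S, w * x = x * w := by
    intro w hw x hx
    obtain ⟨k, rfl⟩ := mem_zpowers_iff.mp hw
    exact (Commute.zpow_left (show Commute c x from hc x hx) k).eq
  have hc₂T : c₂ ∈ TT t S := by
    apply h.two_mem_T hST _ h2
    rw [mem_normalizer_iff]
    intro y
    constructor
    · intro hy
      rwa [hzc c₂ hc₂ y hy, mul_inv_cancel_right]
    · intro hy
      have h1 := hzc c₂⁻¹ ((zpowers c).inv_mem hc₂) _ hy
      have e : y = c₂ * y * c₂⁻¹ := by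
        calc y = c₂⁻¹ * (c₂ * y * c₂⁻¹) * c₂ := by group
          _ = (c₂ * y * c₂⁻¹) * c₂⁻¹ * c₂ := by rw [h1]
          _ = c₂ * y * c₂⁻¹ := by group
      rwa [← e] at hy
  refine ⟨c₂, hc₂T, c₃, ?_, hcc⟩
  intro k hk hk1
  have hkh := (h.hyp_T hk hk1).1
  obtain ⟨v, hv, hEc⟩ := h.exists_v hk hk1 (c := c₃) (hzc c₃ hc₃)
  have hvv : v * v = 1 := h.T_exp v hv.1
  have hvpow : v ^ b = v := by
    obtain ⟨q, rfl⟩ := hb
    rw [pow_succ, pow_mul, pow_two, hvv, one_pow, one_mul]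
  have hcomm : Commute c₃ v := hzc c₃ hc₃ v hv.1
  have hp := Ec_pow hEc b
  rw [hcomm.mul_pow, h3, one_mul, hvpow] at hp
  rcases (h.Ec_T hk hk1 hv.1).mp hp with h1 | h1
  · rw [h1, mul_one] at hEc
    exact hEc
  · exfalso
    rw [h1] at hv
    exact hkh.t_not_mem_L hv.2


/-- An element of `N(T)` fixing `t` is in `L t · T · C(J)`. -/
theorem fix_t_decomp (hST : (S : Subgroup G) = TT t S) {n : G} (hn : n ∈ normalizer (TT t S : Set G))
    (hnt : n * t = t * n) :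
    ∃ z ∈ L t, ∃ τ ∈ TT t S, ∃ f : G, (∀ k ∈ TT t S, k ≠ 1 → Ec f k) ∧ z * n = τ * f := by
  have ht1 : t ≠ 1 := by
    intro e
    have := h.ord
    rw [e, orderOf_one] at this
    omega
  have hV4 : Nat.card ↥(TT t S ⊓ L t) = 4 := h.card_T_L
  obtain ⟨v1, hv1V, hv11⟩ : ∃ v ∈ TT t S ⊓ L t, v ≠ 1 := by
    rcases Subgroup.bot_or_exists_ne_one (TT t S ⊓ L t) with h0 | ⟨b, hb, hb1⟩
    · rw [h0, Subgroup.card_bot] at hV4
      omega
    · exact ⟨b, hb, hb1⟩
  obtain ⟨y, hyL, hyN, hyt, hy3, hymove⟩ := h.exists_y h.t_mem_T ht1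
  have hVt : ∀ x ∈ TT t S ⊓ L t, x ≠ t := fun x hx e => h.t_not_mem_L (e ▸ hx.2)
  have hconjV : ∀ m : G, m ∈ normalizer (TT t S : Set G) → m * t = t * m →
      ∀ x ∈ TT t S ⊓ L t, m * x * m⁻¹ ∈ TT t S ⊓ L t := by
    intro m hm hmt x hx
    exact ⟨(mem_normalizer_iff.mp hm x).mp hx.1, L_norm t m hmt x hx.2⟩
  have hmove : ∀ x ∈ TT t S ⊓ L t, x ≠ 1 → y * x * y⁻¹ ≠ x := fun x hx hx1 =>
    hymove x hx.1 hx1 (hVt x hx)
  have hne1 : ∀ m x : G, x ≠ 1 → m * x * m⁻¹ ≠ 1 := by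
    intro m x hx e
    apply hx
    have : x = m⁻¹ * (m * x * m⁻¹) * m := by group
    rw [this, e]
    group
  have hinvol : ∀ x ∈ TT t S ⊓ L t, x * x = 1 := fun x hx => h.T_exp x hx.1
  have hVcomm : ∀ x ∈ TT t S ⊓ L t, ∀ z ∈ TT t S ⊓ L t, x * z = z * x :=
    fun x hx z hz => h.T_comm x hx.1 z hz.1
  obtain ⟨w1, hw1⟩ : ∃ w1, w1 = y * v1 * y⁻¹ := ⟨_, rfl⟩
  obtain ⟨w2, hw2⟩ : ∃ w2, w2 = y * w1 * y⁻¹ := ⟨_, rfl⟩
  have hw1V : w1 ∈ TT t S ⊓ L t := hw1 ▸ hconjV y hyN hyt v1 hv1V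
  have hw2V : w2 ∈ TT t S ⊓ L t := hw2 ▸ hconjV y hyN hyt w1 hw1V
  have hw11 : w1 ≠ 1 := hw1 ▸ hne1 y v1 hv11
  have hw21 : w2 ≠ 1 := hw2 ▸ hne1 y w1 hw11
  have h12 : v1 ≠ w1 := by
    rw [hw1]
    exact (hmove v1 hv1V hv11).symm
  have h23 : w1 ≠ w2 := by
    rw [hw2]
    exact (hmove w1 hw1V hw11).symm
  have h13 : v1 ≠ w2 := by
    intro e
    have h3 : y * w2 * y⁻¹ = v1 := by
      have hy33 : y ^ 3 = y * y * y := by rw [pow_succ, pow_two]
      calc y * w2 * y⁻¹ = y ^ 3 * v1 * (y ^ 3)⁻¹ := by rw [hw2, hw1, hy33]; group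
        _ = v1 := by rw [hy3]; group
    rw [← e] at h3
    exact hmove v1 hv1V hv11 h3
  have hVall : ∀ x ∈ TT t S ⊓ L t, x = 1 ∨ x = v1 ∨ x = w1 ∨ x = w2 := fun x hx =>
    four_elems hV4 hv1V hw1V hw2V hv11 hw11 hw21 h12 h13 h23 hx
  -- the product
  have hprod : v1 * w1 = w2 := by
    have hm : v1 * w1 ∈ TT t S ⊓ L t := (TT t S ⊓ L t).mul_mem hv1V hw1V
    rcases hVall _ hm with e | e | e | e
    · exfalso
      apply h12
      have : v1 * (w1 * w1) = w1 := by rw [← mul_assoc, e, one_mul]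
      rwa [hinvol w1 hw1V, mul_one] at this
    · exfalso
      apply hw11
      exact mul_left_cancel (a := v1) (by rw [e, mul_one])
    · exfalso
      apply hv11
      exact mul_right_cancel (b := w1) (by rw [e, one_mul])
    · exact e
  -- the element `z`
  have hzex : ∃ z ∈ L t, z ∈ normalizer (TT t S : Set G) ∧ z * t = t * z ∧ z * (n * v1 * n⁻¹) * z⁻¹ = v1 := by
    have hv' := hconjV n hn hnt v1 hv1V
    have hy't : y⁻¹ * t = t * y⁻¹ := by
      calc y⁻¹ * t = y⁻¹ * (t * y) * y⁻¹ := by group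
        _ = y⁻¹ * (y * t) * y⁻¹ := by rw [hyt]
        _ = t * y⁻¹ := by group
    rcases hVall _ hv' with e | e | e | e
    · exact absurd e (hne1 n v1 hv11)
    · exact ⟨1, (L t).one_mem, one_mem _, by simp, by rw [e]; simp⟩
    · refine ⟨y⁻¹, (L t).inv_mem hyL, inv_mem hyN, hy't, ?_⟩
      rw [e, hw1]
      group
    · refine ⟨y⁻¹ * y⁻¹, (L t).mul_mem ((L t).inv_mem hyL) ((L t).inv_mem hyL), mul_mem (inv_mem hyN) (inv_mem hyN), ?_, ?_⟩
      · rw [mul_assoc, hy't, ← mul_assoc, hy't, mul_assoc]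
      · rw [e, hw2, hw1]
        group
  obtain ⟨z, hzL, hzN, hzt, hzv⟩ := hzex
  obtain ⟨n₃, hn₃⟩ : ∃ n₃, n₃ = z * n := ⟨_, rfl⟩
  have hn₃N : n₃ ∈ normalizer (TT t S : Set G) := hn₃ ▸ mul_mem hzN hn
  have hn₃t : n₃ * t = t * n₃ := by
    rw [hn₃, mul_assoc, hnt, ← mul_assoc, hzt, mul_assoc]
  have hn₃v : n₃ * v1 * n₃⁻¹ = v1 := by
    calc n₃ * v1 * n₃⁻¹ = z * (n * v1 * n⁻¹) * z⁻¹ := by rw [hn₃]; group
      _ = v1 := hzv
  have hcv1 : n₃ * v1 = v1 * n₃ := by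
    calc n₃ * v1 = (n₃ * v1 * n₃⁻¹) * n₃ := by group
      _ = v1 * n₃ := by rw [hn₃v]
  obtain ⟨a, b, c₂, c₃, hcc, h2, h3, hb, hc₂, hc₃⟩ := exists_two_odd_parts n₃
  have hzn : zpowers n₃ ≤ normalizer (TT t S : Set G) := by
    rw [zpowers_le]
    exact hn₃N
  have hc₂T : c₂ ∈ TT t S := h.two_mem_T hST (hzn hc₂) h2
  have hact : ∀ x ∈ TT t S, c₃ * x * c₃⁻¹ = n₃ * x * n₃⁻¹ := by
    intro x hx
    have hy' : c₃ * x * c₃⁻¹ ∈ TT t S := (mem_normalizer_iff.mp (hzn hc₃) x).mp hx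
    have hcm : c₂ * (c₃ * x * c₃⁻¹) = (c₃ * x * c₃⁻¹) * c₂ := h.T_comm _ hc₂T _ hy'
    calc c₃ * x * c₃⁻¹ = (c₃ * x * c₃⁻¹) * c₂ * c₂⁻¹ := by group
      _ = c₂ * (c₃ * x * c₃⁻¹) * c₂⁻¹ := by rw [← hcm]
      _ = n₃ * x * n₃⁻¹ := by rw [hcc]; group
  have hw1' : n₃ * w1 * n₃⁻¹ = w1 := by
    have hx := hconjV n₃ hn₃N hn₃t w1 hw1V
    rcases hVall _ hx with e | e | e | e
    · exact absurd e (hne1 n₃ w1 hw11)
    · exfalso
      apply h12
      have h5 : n₃ * w1 * n₃⁻¹ = n₃ * v1 * n₃⁻¹ := by rw [e, hn₃v]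
      exact (mul_left_cancel (mul_right_cancel h5)).symm
    · exact e
    · exfalso
      have hs1 : c₃ * w1 * c₃⁻¹ = w2 := (hact w1 hw1V.1).trans e
      have hcv : c₃ * v1 * c₃⁻¹ = v1 := (hact v1 hv1V.1).trans hn₃v
      have hs2 : c₃ * w2 * c₃⁻¹ = w1 := by
        calc c₃ * w2 * c₃⁻¹ = (c₃ * v1 * c₃⁻¹) * (c₃ * w1 * c₃⁻¹) := by rw [← hprod]; group
          _ = v1 * w2 := by rw [hcv, hs1]
          _ = w1 := by rw [← hprod, ← mul_assoc, hinvol v1 hv1V, one_mul]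
      have hd : (c₃ * c₃) * w1 = w1 * (c₃ * c₃) := by
        calc c₃ * c₃ * w1 = c₃ * (c₃ * w1 * c₃⁻¹) * c₃ := by group
          _ = c₃ * w2 * c₃ := by rw [hs1]
          _ = (c₃ * w2 * c₃⁻¹) * c₃ * c₃ := by group
          _ = w1 * c₃ * c₃ := by rw [hs2]
          _ = w1 * (c₃ * c₃) := by group
      obtain ⟨q, hq⟩ := hb
      have hpow : c₃ ^ b = (c₃ * c₃) ^ q * c₃ := by rw [hq, pow_succ, pow_mul, pow_two]
      rw [hpow] at h3
      have hcomm : Commute ((c₃ * c₃) ^ q) w1 := Commute.pow_left hd q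
      have e3 : c₃ = ((c₃ * c₃) ^ q)⁻¹ := eq_inv_of_mul_eq_one_right h3
      have hc : Commute c₃ w1 := by
        have := hcomm.inv_left
        rwa [← e3] at this
      apply h23
      rw [← hs1, hc.eq]
      group
  have hcw1 : n₃ * w1 = w1 * n₃ := by
    calc n₃ * w1 = (n₃ * w1 * n₃⁻¹) * n₃ := by group
      _ = w1 * n₃ := by rw [hw1']
  have hV : ∀ x ∈ TT t S ⊓ L t, n₃ * x = x * n₃ := by
    intro x hx
    rcases hVall x hx with e | e | e | e
    · rw [e]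
      group
    · rw [e]
      exact hcv1
    · rw [e]
      exact hcw1
    · rw [e, ← hprod, ← mul_assoc, hcv1, mul_assoc, hcw1, mul_assoc]
  have hT : ∀ x ∈ TT t S, n₃ * x = x * n₃ := by
    intro x hx
    rcases h.T_cases x hx with h1 | h1
    · exact hV x ⟨hx, h1⟩
    · have h2 : t * x ∈ TT t S ⊓ L t := ⟨(TT t S).mul_mem h.t_mem_T hx, h1⟩
      have h4 := hV _ h2
      apply mul_left_cancel (a := t)
      calc t * (n₃ * x) = (t * n₃) * x := by group
        _ = (n₃ * t) * x := by rw [hn₃t]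
        _ = n₃ * (t * x) := by group
        _ = t * x * n₃ := h4
        _ = t * (x * n₃) := by group
  obtain ⟨τ, hτ, f, hf, hn₃e⟩ := h.C_T_decomp hST hT
  exact ⟨z, hzL, τ, hτ, f, hf, by rw [← hn₃]; exact hn₃e⟩

/-- Every element of `N(J)` is in `J · C(J)`. -/
theorem N_decomp (hJ : Cfsg.Spor.IsoJ1 ↥(JJ t S)) (hST : (S : Subgroup G) = TT t S) {n : G}
    (hn : n ∈ normalizer (JJ t S : Set G)) :
    ∃ j ∈ JJ t S, ∃ f : G, (∀ k ∈ TT t S, k ≠ 1 → Ec f k) ∧ n = j * f := by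
  have ht1 : t ≠ 1 := by
    intro e
    have := h.ord
    rw [e, orderOf_one] at this
    omega
  let T₂ : Subgroup G := (TT t S).map (MulAut.conj n).toMonoidHom
  have hT₂J : T₂ ≤ JJ t S := by
    rintro _ ⟨τ, hτ, rfl⟩
    exact (mem_normalizer_iff.mp hn τ).mp (h.T_le_JJ hτ)
  have hcard : Nat.card T₂ = 8 := by
    rw [← h.card_T]
    exact Subgroup.card_map_of_injective (MulAut.conj n).injective
  obtain ⟨b, hbJ, hb⟩ := conj_eight (h.jj_card hJ) h.T_le_JJ hT₂J h.card_T hcard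
  have hn₁ : b⁻¹ * n ∈ normalizer (TT t S : Set G) := by
    apply mem_normalizer_of
    · intro τ hτ
      have h1 : n * τ * n⁻¹ ∈ T₂ := ⟨τ, hτ, rfl⟩
      have h2 := (hb _).mp h1
      have e : b⁻¹ * n * τ * (b⁻¹ * n)⁻¹ = b⁻¹ * (n * τ * n⁻¹) * b := by group
      rwa [e]
    · intro z hz
      have h1 : b * z * b⁻¹ ∈ T₂ := by
        rw [hb]
        have e : b⁻¹ * (b * z * b⁻¹) * b = z := by group
        rwa [e]
      obtain ⟨τ, hτ, hτe⟩ := h1
      have h2 : n * τ * n⁻¹ = b * z * b⁻¹ := hτe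
      have e : (b⁻¹ * n)⁻¹ * z * (b⁻¹ * n) = τ := by
        have : n⁻¹ * (b * z * b⁻¹) * n = τ := by
          rw [← h2]
          group
        rw [← this]
        group
      rwa [e]
  have h1 : (b⁻¹ * n) * t * (b⁻¹ * n)⁻¹ ∈ TT t S := (mem_normalizer_iff.mp hn₁ t).mp h.t_mem_T
  have h11 : (b⁻¹ * n) * t * (b⁻¹ * n)⁻¹ ≠ 1 := by
    intro e
    apply ht1
    have : t = (b⁻¹ * n)⁻¹ * ((b⁻¹ * n) * t * (b⁻¹ * n)⁻¹) * (b⁻¹ * n) := by group
    rw [this, e]
    group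
  obtain ⟨a, haJ, haN, hae⟩ := h.trans_of_le (JJ t S) (fun k hk hk1 => L_le_JJ hk hk1) h1 h11 h.t_mem_T ht1
  have hn₂N : a * (b⁻¹ * n) ∈ normalizer (TT t S : Set G) := mul_mem haN hn₁
  have hn₂t : (a * (b⁻¹ * n)) * t = t * (a * (b⁻¹ * n)) := by
    calc (a * (b⁻¹ * n)) * t = (a * ((b⁻¹ * n) * t * (b⁻¹ * n)⁻¹) * a⁻¹) * (a * (b⁻¹ * n)) := by group
      _ = t * (a * (b⁻¹ * n)) := by rw [hae]
  obtain ⟨z, hzL, τ, hτ, f, hf, e⟩ := h.fix_t_decomp hST hn₂N hn₂t
  have hzJ : z ∈ JJ t S := L_le_JJ h.t_mem_T ht1 hzL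
  refine ⟨b * a⁻¹ * z⁻¹ * τ, ?_, f, hf, ?_⟩
  · exact (JJ t S).mul_mem ((JJ t S).mul_mem ((JJ t S).mul_mem hbJ ((JJ t S).inv_mem haJ)) ((JJ t S).inv_mem hzJ)) (h.T_le_JJ hτ)
  · calc n = b * a⁻¹ * z⁻¹ * (z * (a * (b⁻¹ * n))) := by group
      _ = b * a⁻¹ * z⁻¹ * (τ * f) := by rw [e]
      _ = b * a⁻¹ * z⁻¹ * τ * f := by group


theorem card_W : Nat.card (W t) = 120 := by
  obtain ⟨e⟩ := h.iso
  rw [Nat.card_congr e.toEquiv, Nat.card_prod]
  have h1 : Nat.card (Multiplicative (ZMod 2)) = 2 := by simp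
  have h2 : Nat.card A5 = 60 := A5F.card_eq (MulEquiv.refl A5)
  rw [h1, h2]

/-- `C_J(t) = W t` has order 120. -/
theorem cent_J_card (hJ : Cfsg.Spor.IsoJ1 ↥(JJ t S)) (hST : (S : Subgroup G) = TT t S) :
    Nat.card (centralizer ({(⟨t, h.t_mem_JJ⟩ : JJ t S)} : Set (JJ t S))) = 120 := by
  have ht1 : t ≠ 1 := by
    intro e
    have := h.ord
    rw [e, orderOf_one] at this
    omega
  have hLJ : L t ≤ JJ t S := L_le_JJ h.t_mem_T ht1
  have hTW : TT t S ≤ W t := inf_le_right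
  have hmap : (centralizer ({(⟨t, h.t_mem_JJ⟩ : JJ t S)} : Set (JJ t S))).map (JJ t S).subtype = W t := by
    apply le_antisymm
    · rintro _ ⟨c, hc, rfl⟩
      have hct : (c : G) * t = t * c := (congrArg Subtype.val (mem_cent.mp hc)).symm
      obtain ⟨l, hl, n, hnN, e, hnt⟩ := h.frat h.t_mem_T ht1 hct
      obtain ⟨z, hzL, τ, hτ, f, hf, e2⟩ := h.fix_t_decomp hST hnN hnt
      have hnJ : n ∈ JJ t S := by
        have : n = l⁻¹ * c := by rw [e]; group
        rw [this]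
        exact (JJ t S).mul_mem ((JJ t S).inv_mem (hLJ hl)) c.2
      have hfJ : f ∈ JJ t S := by
        have : f = τ⁻¹ * (z * n) := by rw [e2]; group
        rw [this]
        exact (JJ t S).mul_mem ((JJ t S).inv_mem (h.T_le_JJ hτ)) ((JJ t S).mul_mem (hLJ hzL) hnJ)
      have hf1 : f = 1 := h.jj_center hJ hfJ (fun y hy => mem_cent.mp (h.JJ_le_cent hf hy))
      rw [hf1, mul_one] at e2
      have hn : n = z⁻¹ * τ := by rw [← e2]; group
      show (c : G) ∈ W t
      rw [e, hn]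
      exact (W t).mul_mem (L_le_W t hl) ((W t).mul_mem ((W t).inv_mem (L_le_W t hzL)) (hTW hτ))
    · intro x hx
      have hxJ : x ∈ JJ t S := by
        rcases h.W_cases x hx with h1 | h1
        · exact hLJ h1
        · have : x = t⁻¹ * (t * x) := by group
          rw [this]
          exact (JJ t S).mul_mem ((JJ t S).inv_mem h.t_mem_JJ) (hLJ h1)
      refine ⟨⟨x, hxJ⟩, ?_, rfl⟩
      rw [SetLike.mem_coe, mem_cent]
      exact Subtype.ext (t_comm_W t x hx).symm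
  have h1 := h.card_W
  rw [← hmap, Subgroup.card_map_of_injective (JJ t S).subtype_injective] at h1
  exact h1

/-- S7: contradiction from strong embedding. -/
theorem se_false (hJ : Cfsg.Spor.IsoJ1 ↥(JJ t S))
    (hSE : Cfsg.IsStronglyEmbedded (normalizer (JJ t S : Set G))) : False := by
  set N := normalizer (JJ t S : Set G) with hNdef
  have hJN : JJ t S ≤ N := Subgroup.le_normalizer
  have htN : t ∈ N := h.S_le_norm h.mem
  have hu : ∃ u, orderOf u = 2 ∧ u ∉ N := by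
    by_contra hno
    push_neg at hno
    have hne : ∃ g, g ∉ N := by
      by_contra h'
      push_neg at h'
      exact hSE.1 (eq_top_iff.mpr (fun g _ => h' g))
    obtain ⟨g, hg⟩ := hne
    have ho := hSE.2.2 g hg
    have hord : orderOf (g * t * g⁻¹) = 2 := by
      rw [Cfsg.Agent.Lib.StrongEmb.Basic.orderOf_conj' g t]
      exact h.ord
    have htg : g * t * g⁻¹ ∈ N ⊓ N.map (MulAut.conj g).toMonoidHom :=
      ⟨hno _ hord, ⟨t, htN, rfl⟩⟩
    have hd := Subgroup.orderOf_dvd_natCard _ htg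
    rw [hord] at hd
    exact (Nat.not_even_iff_odd.mpr ho) (even_iff_two_dvd.mpr hd)
  obtain ⟨u, hu, huN⟩ := hu
  have hconj : ∀ a b : G, orderOf a = 2 → orderOf b = 2 → IsConj a b := fun a b ha hb =>
    (Cfsg.Agent.S1225.result N hSE u hu huN t t h.ord htN h.ord htN).2 a b ha hb
  have hST := h.S_eq_T hconj
  have hSJ : (S : Subgroup G) ≤ JJ t S := hST ▸ h.T_le_JJ
  haveI hsimple := h.jj_simple hJ
  have hcard := h.jj_card hJ
  have ht1 : t ≠ 1 := by
    intro e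
    have := h.ord
    rw [e, orderOf_one] at this
    omega
  let t₀ : JJ t S := ⟨t, h.t_mem_JJ⟩
  have ht₀ : orderOf t₀ = 2 := by
    rw [Subgroup.orderOf_mk]
    exact h.ord
  -- conjugacy in `J`
  have hinT : ∀ a : JJ t S, orderOf a = 2 → ∃ m ∈ JJ t S, m⁻¹ * (a : G) * m ∈ TT t S ∧ m⁻¹ * (a : G) * m ≠ 1 := by
    intro a ha
    have ha' : orderOf (a : G) = 2 := (Subgroup.orderOf_coe a).trans ha
    obtain ⟨m, hm, hmS⟩ := exists_conj_of_le (JJ t S) S hSJ a.2 ha'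
    refine ⟨m, hm, hST ▸ hmS, ?_⟩
    intro e
    have h1 : (a : G) = m * (m⁻¹ * (a : G) * m) * m⁻¹ := by group
    rw [e] at h1
    have h2 : (a : G) = 1 := by rw [h1]; group
    rw [h2, orderOf_one] at ha'
    omega
  have hconjX : ∀ a b : JJ t S, orderOf a = 2 → orderOf b = 2 → ∃ g : JJ t S, g * a * g⁻¹ = b := by
    intro a b ha hb
    obtain ⟨m, hm, hmT, hm1⟩ := hinT a ha
    obtain ⟨m', hm', hmT', hm1'⟩ := hinT b hb
    obtain ⟨n, hnJ, _, hne⟩ := h.trans_of_le (JJ t S) (fun k hk hk1 => L_le_JJ hk hk1) hmT hm1 hmT' hm1'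
    refine ⟨⟨m' * n * m⁻¹, (JJ t S).mul_mem ((JJ t S).mul_mem hm' hnJ) ((JJ t S).inv_mem hm)⟩, Subtype.ext ?_⟩
    show (m' * n * m⁻¹) * (a : G) * (m' * n * m⁻¹)⁻¹ = (b : G)
    calc (m' * n * m⁻¹) * (a : G) * (m' * n * m⁻¹)⁻¹ = m' * (n * (m⁻¹ * (a : G) * m) * n⁻¹) * m'⁻¹ := by group
      _ = m' * (m'⁻¹ * (b : G) * m') * m'⁻¹ := by rw [hne]
      _ = (b : G) := by group
  have hC := h.cent_J_card hJ hST
  have hD0 := hSE.2.2 u huN
  -- the odd subgroup
  let Q : Subgroup (JJ t S) :=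
    { carrier := {j | ∃ f : G, (∀ y ∈ JJ t S, f * y = y * f) ∧ (j : G) * f ∈ N ⊓ N.map (MulAut.conj u).toMonoidHom}
      mul_mem' := by
        rintro a b ⟨f, hf, hfD⟩ ⟨f', hf', hfD'⟩
        refine ⟨f * f', ?_, ?_⟩
        · intro y hy
          rw [mul_assoc, hf' y hy, ← mul_assoc, hf y hy, mul_assoc]
        · have := (N ⊓ N.map (MulAut.conj u).toMonoidHom).mul_mem hfD hfD'
          have e : (a : G) * f * ((b : G) * f') = ((a * b : JJ t S) : G) * (f * f') := by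
            have h1 := hf b b.2
            show (a : G) * f * ((b : G) * f') = ((a : G) * b) * (f * f')
            calc (a : G) * f * ((b : G) * f') = (a : G) * (f * b) * f' := by group
              _ = (a : G) * (b * f) * f' := by rw [h1]
              _ = ((a : G) * b) * (f * f') := by group
          rwa [e] at this
      one_mem' := by
        refine ⟨1, fun y _ => by group, ?_⟩
        simpa using (N ⊓ N.map (MulAut.conj u).toMonoidHom).one_mem
      inv_mem' := by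
        rintro a ⟨f, hf, hfD⟩
        refine ⟨f⁻¹, ?_, ?_⟩
        · intro y hy
          have h1 := hf y hy
          calc f⁻¹ * y = f⁻¹ * (y * f) * f⁻¹ := by group
            _ = f⁻¹ * (f * y) * f⁻¹ := by rw [h1]
            _ = y * f⁻¹ := by group
        · have := (N ⊓ N.map (MulAut.conj u).toMonoidHom).inv_mem hfD
          have e : ((a : G) * f)⁻¹ = ((a⁻¹ : JJ t S) : G) * f⁻¹ := by
            have h1 := hf a a.2
            show ((a : G) * f)⁻¹ = (a : G)⁻¹ * f⁻¹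
            calc ((a : G) * f)⁻¹ = (f * a)⁻¹ := by rw [h1]
              _ = (a : G)⁻¹ * f⁻¹ := by group
          rwa [e] at this }
  have hQodd : Odd (Nat.card Q) := by
    by_contra hno
    rw [Nat.not_odd_iff_even] at hno
    obtain ⟨q, hq⟩ := exists_prime_orderOf_dvd_card' (G := Q) 2 (even_iff_two_dvd.mp hno)
    have hq₁ : orderOf (((q : JJ t S) : G)) = 2 :=
      (Subgroup.orderOf_coe (q : JJ t S)).trans ((Subgroup.orderOf_coe q).trans hq)
    obtain ⟨f, hf, hfD⟩ := q.2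
    have hr : Odd (orderOf (((q : JJ t S) : G) * f)) := by
      have hd := Subgroup.orderOf_dvd_natCard _ hfD
      exact Odd.of_dvd_nat hD0 hd
    have hcomm : Commute (((q : JJ t S) : G)) f := (hf _ (q : JJ t S).2).symm
    have h1 := pow_orderOf_eq_one (((q : JJ t S) : G) * f)
    rw [hcomm.mul_pow] at h1
    have hqq : ((q : JJ t S) : G) * ((q : JJ t S) : G) = 1 := by
      rw [← pow_two, ← hq₁]
      exact pow_orderOf_eq_one _
    have hqpow : ((q : JJ t S) : G) ^ orderOf (((q : JJ t S) : G) * f) = ((q : JJ t S) : G) := by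
      obtain ⟨s, hs⟩ := hr
      rw [hs, pow_succ, pow_mul, pow_two, hqq, one_pow, one_mul]
    rw [hqpow] at h1
    have h2 : ((q : JJ t S) : G) = (f ^ orderOf (((q : JJ t S) : G) * f))⁻¹ := eq_inv_of_mul_eq_one_left h1
    have h3 : ((q : JJ t S) : G) = 1 := by
      apply h.jj_center hJ (q : JJ t S).2
      intro y hy
      have hc : Commute f y := hf y hy
      have hc2 := (hc.pow_left (orderOf (((q : JJ t S) : G) * f))).inv_left
      rw [← h2] at hc2
      exact hc2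
    rw [h3, orderOf_one] at hq₁
    omega
  -- transitivity
  have htrans : ∀ a b : JJ t S, orderOf a = 2 → orderOf b = 2 → ∃ q ∈ Q, q * a * q⁻¹ = b := by
    intro a b ha hb
    have ha' : orderOf (a : G) = 2 := (Subgroup.orderOf_coe a).trans ha
    have hb' : orderOf (b : G) = 2 := (Subgroup.orderOf_coe b).trans hb
    obtain ⟨d, hd, hde⟩ := (Cfsg.Agent.S1225.result N hSE u hu huN (a : G) (b : G) ha' (hJN a.2) hb' (hJN b.2)).1
    obtain ⟨j, hjJ, f, hf, hdj⟩ := h.N_decomp hJ hST hd.1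
    have hfJ : ∀ y ∈ JJ t S, f * y = y * f := fun y hy => mem_cent.mp (h.JJ_le_cent hf hy)
    refine ⟨⟨j, hjJ⟩, ⟨f, hfJ, ?_⟩, Subtype.ext ?_⟩
    · show j * f ∈ _
      rw [← hdj]
      exact hd
    · show j * (a : G) * j⁻¹ = (b : G)
      rw [← hde, hdj]
      have h1 := hfJ a a.2
      calc j * (a : G) * j⁻¹ = j * ((a : G) * f) * f⁻¹ * j⁻¹ := by group
        _ = j * (f * (a : G)) * f⁻¹ * j⁻¹ := by rw [h1]
        _ = j * f * (a : G) * (j * f)⁻¹ := by group
  -- the index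
  set C := centralizer ({t₀} : Set (JJ t S)) with hCdef
  have hidx : C.index = 1463 := by
    have h1 := Subgroup.card_mul_index C
    rw [hC, hcard] at h1
    omega
  have hsurj : ∀ z : JJ t S ⧸ C, ∃ q : Q, q • ((1 : JJ t S) : JJ t S ⧸ C) = z := by
    intro z
    obtain ⟨x, rfl⟩ := QuotientGroup.mk_surjective z
    have hx2 : orderOf (x * t₀ * x⁻¹) = 2 := by
      rw [Cfsg.Agent.Lib.StrongEmb.Basic.orderOf_conj' x t₀]
      exact ht₀
    obtain ⟨q, hq, hqe⟩ := htrans t₀ _ ht₀ hx2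
    refine ⟨⟨q, hq⟩, ?_⟩
    show (q • ((1 : JJ t S) : JJ t S ⧸ C)) = _
    rw [MulAction.Quotient.smul_coe, smul_eq_mul, mul_one, QuotientGroup.eq]
    rw [hCdef, mem_cent]
    calc t₀ * (q⁻¹ * x) = q⁻¹ * (q * t₀ * q⁻¹) * x := by group
      _ = q⁻¹ * (x * t₀ * x⁻¹) * x := by rw [hqe]
      _ = q⁻¹ * x * t₀ := by group
  haveI : MulAction.IsPretransitive Q (JJ t S ⧸ C) := by
    refine ⟨fun x y => ?_⟩
    obtain ⟨q₁, rfl⟩ := hsurj x
    obtain ⟨q₂, rfl⟩ := hsurj y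
    exact ⟨q₂ * q₁⁻¹, by rw [mul_smul, inv_smul_smul]⟩
  have hdvd : 1463 ∣ Nat.card Q := by
    have h1 := MulAction.index_stabilizer_of_transitive Q ((1 : JJ t S) : JJ t S ⧸ C)
    have h2 := Subgroup.index_dvd_card (MulAction.stabilizer Q ((1 : JJ t S) : JJ t S ⧸ C))
    rw [h1] at h2
    have h3 : Nat.card (JJ t S ⧸ C) = 1463 := hidx
    rwa [h3] at h2
  exact no209 hcard t₀ ht₀ hconjX hC Q hQodd ((by norm_num : 209 ∣ 1463).trans hdvd)

/-- Case 1. -/
theorem case1 (hJ : JJ t S ≠ ⊤)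
    (hnz : ∀ x : G, orderOf x = 2 → centralizer ({x} : Set G) ≠ ⊤)
    (IH : ∀ (Q : Type u) [Group Q] [Finite Q], Nat.card Q < Nat.card G → Main Q) :
    Cfsg.Spor.IsoJ1 ↥(normalClosure ({t} : Set G)) := by
  have hlt : ∀ {H : Subgroup G}, H ≠ ⊤ → Nat.card H < Nat.card G := fun {H} hH =>
    lt_of_le_of_ne (Subgroup.card_le_card_group H) (fun e => hH (Subgroup.eq_top_of_card_eq H e))
  have hJ1 := h.jj_iso (IH _ (hlt hJ))
  by_cases hN : normalizer (JJ t S : Set G) = ⊤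
  · have hn : (JJ t S).Normal := by
      refine ⟨fun y hy g => ?_⟩
      have hg : g ∈ normalizer (JJ t S : Set G) := by rw [hN]; trivial
      exact (mem_normalizer_iff.mp hg y).mp hy
    have hle : normalClosure ({t} : Set G) ≤ JJ t S := by
      apply normalClosure_le_normal
      rintro _ rfl
      exact h.t_mem_JJ
    have heq : normalClosure ({t} : Set G) = JJ t S := le_antisymm hle h.JJ_le_nc
    rw [heq]
    exact hJ1
  · exfalso
    refine h.se_false hJ1 (h.strongly hJ1 ?_ hN)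
    intro x hx hxN
    exact h.cent_le hJ1 hnz (fun x hx => IH _ (hlt (hnz x hx))) hx hxN

end Hyp

end Cfsg.Agent.Lib.WC
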