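import Cfsg.Agent.Lib.WC.SE
import Cfsg.Agent.Lib.WC.Case2
import Cfsg.Agent.Lib.WC.Quot

/-!
# The final induction.
-/

set_option autoImplicit false

namespace Cfsg.Agent.Lib.WC

open Subgroup

universe u

/-- The theorem, for all finite groups, by induction. -/
theorem main (G : Type u) [Group G] [Finite G] : Main G := by
  induction hn : Nat.card G using Nat.strong_induction_on generalizing G with
  | _ n ih =>
    intro t S h
    have IH : ∀ (Q : Type u) [Group Q] [Finite Q], Nat.card Q < Nat.card G → Main Q :=
      fun Q _ _ hQ => ih _ (hn ▸ hQ) Q rfl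
    by_cases hz : ∃ x : G, orderOf x = 2 ∧ centralizer ({x} : Set G) = ⊤
    · obtain ⟨e, he, hc⟩ := hz
      have hez : ∀ g : G, e * g = g * e := by
        intro g
        have hg : g ∈ centralizer ({e} : Set G) := hc ▸ mem_top g
        exact (mem_centralizer_singleton_iff.mp hg).symm
      haveI hn' : (zpowers e).Normal := by
        refine ⟨fun x hx g => ?_⟩
        obtain ⟨k, rfl⟩ := hx
        refine ⟨k, ?_⟩
        have : Commute g e := (hez g).symm
        simp only []
        rw [(this.zpow_right k).eq]
        group
      refine case0 h he hez (IH _ ?_)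
      have h1 : 1 < Nat.card (zpowers e) := by
        rw [Nat.card_zpowers, he]
        norm_num
      have h2 : Nat.card (G ⧸ zpowers e) * Nat.card (zpowers e) = Nat.card G := by
        rw [← Subgroup.card_eq_card_quotient_mul_card_subgroup]
      have h3 : 0 < Nat.card (G ⧸ zpowers e) := Nat.card_pos
      nlinarith
    · push_neg at hz
      by_cases hJ : JJ t S = ⊤
      · exact h.case2 hJ hz
      · exact h.case1 hJ hz IH

end Cfsg.Agent.Lib.WC
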